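import Mathlib
import Cfsg.Agent.Helper71.BSW.Defs
import Cfsg.Agent.Helper73.PGroupCyclic

/-!
# (A1h) of #10839 for helper71 (S3282, abstract Brauer–Suzuki–Wall): the Sylow 2-subgroups of `N(U)`
are cyclic.
-/

set_option autoImplicit false

namespace Cfsg.Agent.Helper49.BSW

open Cfsg.Agent.Helper71.BSW

theorem a1_local_sylow_two_cyclic {G : Type*} [Group G] [Finite G] {t s : G} {K : Subgroup G}
    (h : Hyp t s K) (A : FactsA0 t s K)
    (hF : ∀ U : Subgroup G, U ≠ ⊥ → (Nat.card U).Coprime (2 * Nat.card K) →
      ∀ a b : G, a ∈ Subgroup.normalizer (U : Set G) → b ∈ Subgroup.normalizer (U : Set G) →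
        orderOf a = 2 → orderOf b = 2 → Commute a b → a = b) :
    ∀ U : Subgroup G, U ≠ ⊥ → (Nat.card U).Coprime (2 * Nat.card K) →
    ∀ S : Sylow 2 ↥(Subgroup.normalizer (U : Set G)), IsCyclic S := by
  intro U hU hcop S
  classical
  have : Fact (Nat.Prime 2) := ⟨Nat.prime_two⟩
  have hS2 : IsPGroup 2 ↥(S : Subgroup ↥(Subgroup.normalizer (U : Set G))) := S.isPGroup'
  by_cases htriv : Subsingleton ↥(S : Subgroup ↥(Subgroup.normalizer (U : Set G)))
  · exact isCyclic_of_subsingleton
  · have hnt : Nontrivial ↥(S : Subgroup ↥(Subgroup.normalizer (U : Set G))) :=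
      not_subsingleton_iff_nontrivial.mp htriv
    have hcn := hS2.center_nontrivial
    -- an involution in the centre
    have h2 : 2 ∣ Nat.card (Subgroup.center ↥(S : Subgroup ↥(Subgroup.normalizer (U : Set G)))) := by
      obtain ⟨k, hk⟩ := (hS2.to_subgroup (Subgroup.center _)).exists_card_eq
      have hk0 : k ≠ 0 := by
        intro h0
        rw [h0, pow_zero] at hk
        have := Finite.one_lt_card
          (α := Subgroup.center ↥(S : Subgroup ↥(Subgroup.normalizer (U : Set G))))
        omega
      rw [hk]
      exact dvd_pow_self 2 hk0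
    obtain ⟨z, hz⟩ := exists_prime_orderOf_dvd_card' 2 h2
    have ha₀ : orderOf (z : ↥(S : Subgroup ↥(Subgroup.normalizer (U : Set G)))) = 2 := by
      rw [Subgroup.orderOf_coe]
      exact hz
    have ha₀c : ∀ g : ↥(S : Subgroup ↥(Subgroup.normalizer (U : Set G))),
        g * (z : ↥(S : Subgroup ↥(Subgroup.normalizer (U : Set G)))) = z * g :=
      fun g => Subgroup.mem_center_iff.mp z.2 g
    -- its image in `G`
    obtain ⟨a, haeq⟩ : ∃ a : G, a = (((z : ↥(S : Subgroup ↥(Subgroup.normalizer (U : Set G)))) :
        ↥(Subgroup.normalizer (U : Set G))) : G) := ⟨_, rfl⟩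
    have ha : orderOf a = 2 := by
      rw [haeq, Subgroup.orderOf_coe, Subgroup.orderOf_coe]
      exact ha₀
    have haN : a ∈ Subgroup.normalizer (U : Set G) := by
      rw [haeq]
      exact ((z : ↥(S : Subgroup ↥(Subgroup.normalizer (U : Set G)))) :
        ↥(Subgroup.normalizer (U : Set G))).2
    obtain ⟨c, hc⟩ := isConj_iff.mp (h.hconj a t ha h.ht)
    -- every element of `S` is conjugated into `K` by `c`
    have hkey : ∀ g : ↥(S : Subgroup ↥(Subgroup.normalizer (U : Set G))),
        c * ((g : ↥(Subgroup.normalizer (U : Set G))) : G) * c⁻¹ ∈ K := by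
      intro g
      obtain ⟨g', hg'⟩ : ∃ g' : G, g' = ((g : ↥(Subgroup.normalizer (U : Set G))) : G) := ⟨_, rfl⟩
      rw [← hg']
      have hg'N : g' ∈ Subgroup.normalizer (U : Set G) := by
        rw [hg']
        exact (g : ↥(Subgroup.normalizer (U : Set G))).2
      have hcomm : g' * a = a * g' := by
        have e := congrArg (fun x : ↥(S : Subgroup ↥(Subgroup.normalizer (U : Set G))) =>
          ((x : ↥(Subgroup.normalizer (U : Set G))) : G)) (ha₀c g)
        simp only [Subgroup.coe_mul] at e
        rw [hg', haeq]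
        exact e
      have hCt : c * g' * c⁻¹ ∈ Subgroup.centralizer ({t} : Set G) := by
        rw [Subgroup.mem_centralizer_singleton_iff, ← hc]
        calc c * g' * c⁻¹ * (c * a * c⁻¹) = c * (g' * a) * c⁻¹ := by group
          _ = c * (a * g') * c⁻¹ := by rw [hcomm]
          _ = c * a * c⁻¹ * (c * g' * c⁻¹) := by group
      rcases A.mem_cent_t_cases _ hCt with hK | ⟨y, hy, hsy⟩
      · exact hK
      · exfalso
        have ho : orderOf (c * g' * c⁻¹) = 2 := by
          rw [hsy]
          exact A.orderOf_s_mul y hy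
        have hsc : SemiconjBy c g' (c * g' * c⁻¹) := by
          unfold SemiconjBy
          group
        have hog : orderOf g' = 2 := by rw [hsc.orderOf_eq, ho]
        have hag : a = g' := hF U hU hcop a g' haN hg'N ha hog hcomm.symm
        have hst : s * y = t := by rw [← hsy, ← hag, hc]
        apply h.hsK
        have hs : s = t * y⁻¹ := by rw [← hst]; group
        rw [hs]
        exact K.mul_mem h.htK (K.inv_mem hy)
    -- `S` is commutative
    have hcommS : ∀ g1 g2 : ↥(S : Subgroup ↥(Subgroup.normalizer (U : Set G))),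
        g1 * g2 = g2 * g1 := by
      intro g1 g2
      have e := h.hKab _ (hkey g1) _ (hkey g2)
      have e' : ((g1 : ↥(Subgroup.normalizer (U : Set G))) : G) *
          ((g2 : ↥(Subgroup.normalizer (U : Set G))) : G) =
          ((g2 : ↥(Subgroup.normalizer (U : Set G))) : G) *
          ((g1 : ↥(Subgroup.normalizer (U : Set G))) : G) := by
        have e2 : c * (((g1 : ↥(Subgroup.normalizer (U : Set G))) : G) *
            ((g2 : ↥(Subgroup.normalizer (U : Set G))) : G)) * c⁻¹ =
            c * (((g2 : ↥(Subgroup.normalizer (U : Set G))) : G) *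
            ((g1 : ↥(Subgroup.normalizer (U : Set G))) : G)) * c⁻¹ := by
          calc c * (((g1 : ↥(Subgroup.normalizer (U : Set G))) : G) *
              ((g2 : ↥(Subgroup.normalizer (U : Set G))) : G)) * c⁻¹
              = c * ((g1 : ↥(Subgroup.normalizer (U : Set G))) : G) * c⁻¹ *
                (c * ((g2 : ↥(Subgroup.normalizer (U : Set G))) : G) * c⁻¹) := by group
            _ = c * ((g2 : ↥(Subgroup.normalizer (U : Set G))) : G) * c⁻¹ *
                (c * ((g1 : ↥(Subgroup.normalizer (U : Set G))) : G) * c⁻¹) := e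
            _ = _ := by group
        exact mul_left_cancel (mul_right_cancel e2)
      apply Subtype.ext
      apply Subtype.ext
      simp only [Subgroup.coe_mul]
      exact e'
    -- a unique involution
    have hinvol : ∀ x : ↥(S : Subgroup ↥(Subgroup.normalizer (U : Set G))), orderOf x = 2 →
        c * ((x : ↥(Subgroup.normalizer (U : Set G))) : G) * c⁻¹ = t := by
      intro x hx
      apply A.eq_t_of_mem_K _ (hkey x)
      have hsc : SemiconjBy c ((x : ↥(Subgroup.normalizer (U : Set G))) : G)
          (c * ((x : ↥(Subgroup.normalizer (U : Set G))) : G) * c⁻¹) := by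
        unfold SemiconjBy
        group
      rw [← hsc.orderOf_eq, Subgroup.orderOf_coe, Subgroup.orderOf_coe]
      exact hx
    have huniq : Cfsg.Agent.Helper73.UniqueOrderP 2
        ↥(S : Subgroup ↥(Subgroup.normalizer (U : Set G))) := by
      intro x y hx hy
      have e : ((x : ↥(Subgroup.normalizer (U : Set G))) : G) =
          ((y : ↥(Subgroup.normalizer (U : Set G))) : G) := by
        have e1 := hinvol x hx
        have e2 := hinvol y hy
        exact mul_left_cancel (mul_right_cancel (e1.trans e2.symm))
      have exy : y = x := Subtype.ext (Subtype.ext e.symm)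
      rw [exy]
      exact Subgroup.mem_zpowers x
    exact Cfsg.Agent.Helper73.isCyclic_of_comm_of_uniqueOrderP hS2 hcommS huniq

end Cfsg.Agent.Helper49.BSW
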