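import Mathlib

/-!
# Helper49: piece (S5b) of WANTED #11224 for helper71 / S3282 (abstract Brauer–Suzuki–Wall)

Pure arithmetic: `x = 2k+δ`, `|G| = 2k(2k+δ)(k+δ)`, `ε = -δ`, `y = k+δ`.
-/

set_option autoImplicit false

namespace Cfsg.Agent.Helper49.BSW

/-- second half: from `x = 2k+δ` get the signs and the degrees `y₁`, `y₂` -/
theorem bsw_arith_aux2 (k y₁ y₂ : ℤ) (δ ε₁ ε₂ : ℤ)
    (hδ : δ = 1 ∨ δ = -1) (hε₁ : ε₁ = 1 ∨ ε₁ = -1) (hε₂ : ε₂ = 1 ∨ ε₂ = -1)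
    (hk : 4 ≤ k) (hy₁ : 0 < y₁) (hy₂ : 0 < y₂)
    (E2 : (ε₁ * y₂ + ε₂ * y₁) * (2 * k + δ + δ) = -4 * δ * (y₁ * y₂))
    (E3 : δ * (2 * k + δ) + ε₁ * y₁ + ε₂ * y₂ = -1) :
    ε₁ = -δ ∧ ε₂ = -δ ∧ y₁ = k + δ ∧ y₂ = k + δ := by
  have hδ2 : δ * δ = 1 := by rcases hδ with rfl | rfl <;> norm_num
  have h12 : ε₁ * ε₁ = 1 := by rcases hε₁ with rfl | rfl <;> norm_num
  have h22 : ε₂ * ε₂ = 1 := by rcases hε₂ with rfl | rfl <;> norm_num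
  have hsum : ε₁ * y₁ + ε₂ * y₂ = -2 * δ * (k + δ) := by
    linear_combination E3 + hδ2
  have hprod : (ε₁ * y₁) * (ε₂ * y₂) = (k + δ) ^ 2 := by
    have h4 : 4 * ((ε₁ * y₁) * (ε₂ * y₂)) = 4 * (k + δ) ^ 2 := by
      have e1 : 4 * ((ε₁ * y₁) * (ε₂ * y₂)) = -δ * (ε₁ * y₁ + ε₂ * y₂) * (2 * k + δ + δ) := by
        linear_combination (δ * ε₁ * ε₂) * E2 - (4 * ε₁ * ε₂ * y₁ * y₂) * hδ2
          - (δ * (2 * k + δ + δ) * ε₁ * y₁) * h22 - (δ * (2 * k + δ + δ) * ε₂ * y₂) * h12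
      rw [e1, hsum]
      linear_combination (4 * (k + δ) ^ 2) * hδ2
    linarith
  have hsq : (ε₁ * y₁ - ε₂ * y₂) ^ 2 = 0 := by
    have : (ε₁ * y₁ - ε₂ * y₂) ^ 2 = (ε₁ * y₁ + ε₂ * y₂) ^ 2 - 4 * ((ε₁ * y₁) * (ε₂ * y₂)) := by
      ring
    rw [this, hsum, hprod]
    linear_combination (4 * (k + δ) ^ 2) * hδ2
  have huv : ε₁ * y₁ = ε₂ * y₂ := by
    have := pow_eq_zero_iff (n := 2) (by norm_num) |>.mp hsq
    linarith
  have hu : ε₁ * y₁ = -δ * (k + δ) := by linarith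
  have hv : ε₂ * y₂ = -δ * (k + δ) := by linarith
  rcases hδ with rfl | rfl <;> rcases hε₁ with rfl | rfl <;> rcases hε₂ with rfl | rfl <;>
    first
    | (exfalso; linarith)
    | (refine ⟨by norm_num, by norm_num, ?_, ?_⟩ <;> linarith)

/-- (S5b) -/
theorem bsw_arith (k N x y₁ y₂ : ℕ) (δ ε₁ ε₂ : ℤ) (hk : 4 ≤ k) (hk2 : 2 ∣ k)
    (hδ : δ = 1 ∨ δ = -1) (hε₁ : ε₁ = 1 ∨ ε₁ = -1) (hε₂ : ε₂ = 1 ∨ ε₂ = -1)
    (hx : 0 < x) (hy₁ : 0 < y₁) (hy₂ : 0 < y₂) (hxd : 0 < (x : ℤ) + δ)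
    (hN : 2 * k ∣ N) (hcop : (N / (2 * k)).Coprime (2 * k))
    (hcong : (k : ℤ) ∣ (x : ℤ) - δ)
    (E1 : (1 + (δ : ℚ) / x - 4 * δ / (x + δ)) * (N : ℚ) = 4 * (k : ℚ) ^ 3)
    (E2 : (ε₁ : ℚ) / y₁ + (ε₂ : ℚ) / y₂ = -4 * δ / (x + δ))
    (E3 : δ * x + ε₁ * y₁ + ε₂ * y₂ = -1) :
    (x : ℤ) = 2 * k + δ ∧ (N : ℤ) = 2 * k * (2 * k + δ) * (k + δ) ∧ ε₁ = -δ ∧ ε₂ = -δ ∧
      (y₁ : ℤ) = k + δ ∧ (y₂ : ℤ) = k + δ := by
  have hδ2 : δ * δ = 1 := by rcases hδ with rfl | rfl <;> norm_num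
  have hxq : (x : ℚ) ≠ 0 := by exact_mod_cast hx.ne'
  have hxdq : (x : ℚ) + δ ≠ 0 := by
    have : ((x : ℤ) + δ) ≠ 0 := hxd.ne'
    exact_mod_cast this
  have hy₁q : (y₁ : ℚ) ≠ 0 := by exact_mod_cast hy₁.ne'
  have hy₂q : (y₂ : ℚ) ≠ 0 := by exact_mod_cast hy₂.ne'
  -- integer form of E1
  have E1z : ((x : ℤ) - δ) ^ 2 * N = 4 * (k : ℤ) ^ 3 * (x * (x + δ)) := by
    have h1 : (1 + (δ : ℚ) / x - 4 * δ / (x + δ)) = ((x : ℚ) - δ) ^ 2 / (x * (x + δ)) := by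
      field_simp
      ring
    rw [h1, div_mul_eq_mul_div, div_eq_iff (mul_ne_zero hxq hxdq)] at E1
    exact_mod_cast E1
  -- integer form of E2
  have E2z : (ε₁ * (y₂ : ℤ) + ε₂ * y₁) * ((x : ℤ) + δ) = -4 * δ * ((y₁ : ℤ) * y₂) := by
    have h1 : (ε₁ : ℚ) / y₁ + (ε₂ : ℚ) / y₂ = (ε₁ * y₂ + ε₂ * y₁) / (y₁ * y₂) := by
      field_simp
    rw [h1, div_eq_div_iff (mul_ne_zero hy₁q hy₂q) hxdq] at E2
    exact_mod_cast E2
  obtain ⟨j, hj⟩ := hcong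
  have hkpos : (0 : ℤ) < k := by exact_mod_cast (by omega : 0 < k)
  have hk4 : (4 : ℤ) ≤ k := by exact_mod_cast hk
  have hxj : (x : ℤ) = k * j + δ := by linarith
  -- cancel k^2
  have hNj : (N : ℤ) * j ^ 2 = 4 * k * (x * (x + δ)) := by
    have h2 : (k : ℤ) ^ 2 * ((N : ℤ) * j ^ 2) = (k : ℤ) ^ 2 * (4 * k * (x * (x + δ))) := by
      rw [hj] at E1z
      linear_combination E1z
    exact mul_left_cancel₀ (pow_ne_zero 2 hkpos.ne') h2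
  obtain ⟨n, hn⟩ := hN
  have hndiv : N / (2 * k) = n := by
    rw [hn]
    exact Nat.mul_div_cancel_left n (by omega)
  rw [hndiv] at hcop
  have hNz : (N : ℤ) = 2 * k * n := by rw [hn]; push_cast; ring
  have hnj : (n : ℤ) * j ^ 2 = 2 * ((k * j + δ) * (k * j + 2 * δ)) := by
    have h2 : (2 * (k : ℤ)) * ((n : ℤ) * j ^ 2) = (2 * (k : ℤ)) * (2 * ((k * j + δ) * (k * j + 2 * δ))) := by
      rw [hNz, hxj] at hNj
      linear_combination hNj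
    exact mul_left_cancel₀ (by positivity) h2
  have hj0 : j ≠ 0 := by
    rintro rfl
    have : (0 : ℤ) = 4 * (δ * δ) := by linear_combination hnj
    rw [hδ2] at this
    norm_num at this
  have hj1 : 1 ≤ j := by
    by_contra hlt
    have hjn : j ≤ -1 := by omega
    have h3 : (k : ℤ) * j ≤ k * (-1) := mul_le_mul_of_nonneg_left hjn hkpos.le
    have hxpos : (0 : ℤ) < x := by exact_mod_cast hx
    rcases hδ with rfl | rfl <;> linarith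
  have hj4 : j ∣ 4 := by
    refine Dvd.intro (n * j - 2 * k ^ 2 * j - 6 * δ * k) ?_
    linear_combination hnj + 4 * hδ2
  have hjle : j ≤ 4 := Int.le_of_dvd (by norm_num) hj4
  have hcases : j = 1 ∨ j = 2 ∨ j = 4 := by
    interval_cases j
    · left; rfl
    · right; left; rfl
    · exfalso; norm_num at hj4
    · right; right; rfl
  rcases hcases with rfl | rfl | rfl
  · -- j = 1 : n is even, contradiction
    exfalso
    have h2n : (2 : ℤ) ∣ n := ⟨(k + δ) * (k + 2 * δ), by linear_combination hnj⟩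
    have h2n' : 2 ∣ n := by exact_mod_cast h2n
    have := Nat.dvd_gcd h2n' (dvd_mul_right 2 k)
    rw [hcop.gcd_eq_one] at this
    omega
  · -- j = 2
    have hx2 : (x : ℤ) = 2 * k + δ := by linarith
    have hn2 : (n : ℤ) = (2 * k + δ) * (k + δ) := by
      have h4 : 4 * (n : ℤ) = 4 * ((2 * k + δ) * (k + δ)) := by linear_combination hnj
      linarith
    have hy₁z : (0 : ℤ) < y₁ := by exact_mod_cast hy₁
    have hy₂z : (0 : ℤ) < y₂ := by exact_mod_cast hy₂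
    rw [hx2] at E2z E3
    obtain ⟨a1, a2, a3, a4⟩ := bsw_arith_aux2 k y₁ y₂ δ ε₁ ε₂ hδ hε₁ hε₂ hk4 hy₁z hy₂z E2z E3
    refine ⟨hx2, ?_, a1, a2, a3, a4⟩
    rw [hNz, hn2]
    ring
  · -- j = 4 : parity contradiction
    exfalso
    have h4n : 4 * (n : ℤ) = 8 * (k : ℤ) ^ 2 + 6 * k * δ + 1 := by
      have h16 : 4 * (4 * (n : ℤ)) = 4 * (8 * (k : ℤ) ^ 2 + 6 * k * δ + 1) := by
        linear_combination hnj + 4 * hδ2
      linarith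
    have h21 : (2 : ℤ) ∣ 1 := by
      refine ⟨2 * n - 4 * k ^ 2 - 3 * k * δ, ?_⟩
      linear_combination (-1 : ℤ) * h4n
    norm_num at h21

end Cfsg.Agent.Helper49.BSW
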